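/-
Mittag-Leffler systems of abelian groups: extensions, lim¹ vanishing, exactness of limits.
-/
import Mathlib.Algebra.Category.Grp.Limits
import Mathlib.Algebra.Category.Grp.Abelian
import Mathlib.Algebra.BigOperators.Intervals
import Mathlib.CategoryTheory.CofilteredSystem
import Mathlib.Data.Set.Countable

set_option autoImplicit false

open CategoryTheory CategoryTheory.Limits Opposite

namespace Groth.Agent.Lib.MLSeq.Basic

universe v w u

variable {ι : Type w} [Preorder ι]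

/-- Transition maps. -/
abbrev tr (F : ιᵒᵖ ⥤ AddCommGrpCat.{u}) {i j : ι} (h : i ≤ j) : F.obj (op j) →+ F.obj (op i) :=
  (F.map (homOfLE h).op).hom

variable {A B C F : ιᵒᵖ ⥤ AddCommGrpCat.{u}}

lemma tr_self {i : ι} (h : i ≤ i) (x : F.obj (op i)) : tr F h x = x := by
  change (F.map (homOfLE h).op).hom x = x
  rw [Subsingleton.elim (homOfLE h) (𝟙 i), op_id, CategoryTheory.Functor.map_id]
  rfl

lemma tr_tr {i j k : ι} (h : i ≤ j) (h' : j ≤ k) (x : F.obj (op k)) :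
    tr F h (tr F h' x) = tr F (h.trans h') x := by
  change (F.map _).hom ((F.map _).hom x) = (F.map (homOfLE (h.trans h')).op).hom x
  rw [← homOfLE_comp h h', op_comp, Functor.map_comp]
  rfl

lemma app_tr (a : A ⟶ B) {i j : ι} (h : i ≤ j) (x : A.obj (op j)) :
    (a.app (op i)).hom (tr A h x) = tr B h ((a.app (op j)).hom x) := by
  have := congrArg (fun f => f.hom x) (a.naturality (homOfLE h).op)
  exact this

/-- The Mittag-Leffler condition, elementwise. -/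
def ML (F : ιᵒᵖ ⥤ AddCommGrpCat.{u}) : Prop :=
  ∀ i, ∃ (j : ι) (hij : i ≤ j), ∀ (k : ι) (hik : i ≤ k), ∀ x, tr F hij x ∈ (tr F hik).range

lemma ml_iff (F : ιᵒᵖ ⥤ AddCommGrpCat.{u}) : (F ⋙ forget AddCommGrpCat).IsMittagLeffler ↔ ML F := by
  constructor
  · intro h i
    obtain ⟨j, f, hj⟩ := h (op i)
    refine ⟨j.unop, leOfHom f.unop, fun k hik x => ?_⟩
    obtain ⟨y, hy⟩ := hj (homOfLE hik).op ⟨x, rfl⟩
    exact ⟨y, hy⟩
  · intro h i
    obtain ⟨j, hij, hj⟩ := h i.unop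
    refine ⟨op j, (homOfLE hij).op, fun k g => ?_⟩
    rintro _ ⟨x, rfl⟩
    obtain ⟨y, hy⟩ := hj k.unop (leOfHom g.unop) x
    exact ⟨y, hy⟩

lemma ml_of_epi (v : B ⟶ C) (hv : ∀ i, Function.Surjective (v.app i).hom) (hB : ML B) : ML C :=
  fun i => by
    obtain ⟨j, hij, hj⟩ := hB i
    refine ⟨j, hij, fun k hik x => ?_⟩
    obtain ⟨b, rfl⟩ := hv _ x
    obtain ⟨y, hy⟩ := hj k hik b
    exact ⟨(v.app _).hom y, by rw [← app_tr, hy, app_tr]⟩

lemma ml_extension [IsDirected ι (· ≤ ·)] (u : A ⟶ B) (v : B ⟶ C)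
    (hv : ∀ i, Function.Surjective (v.app i).hom)
    (hex : ∀ i, (v.app i).hom.ker = (u.app i).hom.range) (hA : ML A) (hC : ML C) : ML B := fun i => by
  obtain ⟨j, hij, hj⟩ := hA i
  obtain ⟨k, hjk, hk⟩ := hC j
  refine ⟨k, hij.trans hjk, fun l hil b => ?_⟩
  obtain ⟨m, hjm, hlm⟩ := exists_ge_ge j l
  obtain ⟨c, hc⟩ := hk m hjm ((v.app (op k)).hom b)
  obtain ⟨bm, rfl⟩ := hv _ c
  have h0 : tr B hjk b - tr B hjm bm ∈ (v.app (op j)).hom.ker := by
    rw [AddMonoidHom.mem_ker, map_sub, app_tr, app_tr, hc, sub_self]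
  rw [hex] at h0
  obtain ⟨a, ha⟩ := h0
  obtain ⟨al, hal⟩ := hj l hil a
  refine ⟨(u.app _).hom al + tr B hlm bm, ?_⟩
  have h1 := congrArg (fun t => tr B hij t) ha
  simp only [map_sub, tr_tr, ← app_tr u hij a] at h1
  rw [map_add, tr_tr, ← app_tr, hal, h1, sub_add_cancel]

lemma ml_of_surjective (h : ∀ ⦃i j : ι⦄ (h : i ≤ j), Function.Surjective (tr F h)) : ML F :=
  fun i => ⟨i, le_rfl, fun k hik x => by
    obtain ⟨y, hy⟩ := h hik x
    exact ⟨y, by rw [hy, tr_self]⟩⟩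

/-- Eventual image. -/
def evImage (F : ιᵒᵖ ⥤ AddCommGrpCat.{u}) (i : ι) : AddSubgroup (F.obj (op i)) :=
  ⨅ (j : ι) (h : i ≤ j), (tr F h).range

lemma mem_evImage {i : ι} {x : F.obj (op i)} :
    x ∈ evImage F i ↔ ∀ (j : ι) (h : i ≤ j), x ∈ (tr F h).range := by
  simp [evImage, AddSubgroup.mem_iInf]

lemma evImage_surjective (hF : ML F) {i i' : ι} (h : i ≤ i') {x : F.obj (op i)} (hx : x ∈ evImage F i) :
    ∃ y ∈ evImage F i', tr F h y = x := by
  obtain ⟨j, hij, hj⟩ := hF i'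
  obtain ⟨z, hz⟩ := mem_evImage.1 hx j (h.trans hij)
  exact ⟨tr F hij z, mem_evImage.2 fun k hk => hj k hk z, by rw [tr_tr, hz]⟩

section seq

variable {φ : ℕ → ι} (hφ : Monotone φ) (hcof : ∀ i, ∃ n, i ≤ φ n)
include hφ

/-- A compatible sequence extends uniquely to a compatible family. -/
lemma exists_extend (hcof : ∀ i, ∃ n, i ≤ φ n) (b : ∀ n, F.obj (op (φ n)))
    (hb : ∀ n, tr F (hφ (Nat.le_succ n)) (b (n + 1)) = b n) :
    ∃ β : ∀ i, F.obj (op i), (∀ ⦃i j : ι⦄ (h : i ≤ j), tr F h (β j) = β i) ∧ ∀ n, β (φ n) = b n := by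
  have hmn : ∀ ⦃m n : ℕ⦄ (h : m ≤ n), tr F (hφ h) (b n) = b m := by
    intro m n h
    induction h with
    | refl => exact tr_self _ _
    | @step k hk ih =>
      rw [← tr_tr (hφ hk) (hφ (Nat.le_succ k)), hb, ih]
  choose N hN using hcof
  have key : ∀ (i : ι) (n : ℕ) (h : i ≤ φ n), tr F h (b n) = tr F (hN i) (b (N i)) := by
    intro i n h
    rw [← hmn (le_max_left n (N i)), ← hmn (le_max_right n (N i)), tr_tr, tr_tr]
  refine ⟨fun i => tr F (hN i) (b (N i)), fun i j h => ?_, fun n => ?_⟩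
  · rw [tr_tr]; exact key i (N j) (h.trans (hN j))
  · exact (key (φ n) n le_rfl).symm.trans (tr_self _ _)

/-- `lim¹` vanishes on Mittag-Leffler systems. -/
theorem exists_primitive (hcof : ∀ i, ∃ n, i ≤ φ n) (hF : ML F) (a : ∀ n, F.obj (op (φ n))) :
    ∃ x : ∀ n, F.obj (op (φ n)), ∀ n, x n - tr F (hφ (Nat.le_succ n)) (x (n + 1)) = a n := by
  have hM : ∀ n, ∃ m, n ≤ m ∧ ∀ k (h : n ≤ k), m ≤ k → ∀ z, tr F (hφ h) z ∈ evImage F (φ n) := by
    intro n
    obtain ⟨j, hij, hj⟩ := hF (φ n)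
    obtain ⟨m, hm⟩ := hcof j
    refine ⟨max n m, le_max_left _ _, fun k hk hmk z => mem_evImage.2 fun l hl => ?_⟩
    have hjk : j ≤ φ k := hm.trans (hφ ((le_max_right _ _).trans hmk))
    rw [← tr_tr hij hjk z]
    exact hj l hl _
  choose m hm1 hm using hM
  let M : ℕ → ℕ := fun n => ∑ k ∈ Finset.range (n + 1), m k
  have hMmono : ∀ n, M n ≤ M (n + 1) := fun n => by
    simp only [M, Finset.sum_range_succ _ (n + 1)]; exact Nat.le_add_right _ _
  have hmM : ∀ n, m n ≤ M n := fun n => by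
    simp only [M, Finset.sum_range_succ]; exact Nat.le_add_left _ _
  let f : ∀ n k : ℕ, F.obj (op (φ n)) := fun n k =>
    if h : n ≤ k then tr F (hφ h) (a k) else 0
  let y : ∀ n, F.obj (op (φ n)) := fun n => ∑ k ∈ Finset.Ico n (M n), f n k
  have hr : ∀ n, a n - (y n - tr F (hφ (Nat.le_succ n)) (y (n + 1))) ∈ evImage F (φ n) := by
    intro n
    have h1 : tr F (hφ (Nat.le_succ n)) (y (n + 1)) = ∑ k ∈ Finset.Ico (n + 1) (M (n + 1)), f n k := by
      simp only [y, map_sum]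
      refine Finset.sum_congr rfl fun k hk => ?_
      have hk' := (Finset.mem_Ico.1 hk).1
      simp only [f, dif_pos hk', dif_pos (show n ≤ k by omega), tr_tr]
    have hnM : n ≤ M n := (hm1 n).trans (hmM n)
    have h2 : y n - tr F (hφ (Nat.le_succ n)) (y (n + 1)) =
        a n - ∑ k ∈ Finset.Ico (M n) (M (n + 1)), f n k := by
      rcases hnM.lt_or_eq with hlt | heq
      · rw [h1, ← Finset.sum_Ico_consecutive (f n) (show n + 1 ≤ M n from hlt) (hMmono n)]
        simp only [y]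
        rw [Finset.sum_eq_sum_Ico_succ_bot hlt (f n)]
        simp only [f, dif_pos (le_refl n), tr_self]
        abel
      · have hlt' : n < M (n + 1) := (hm1 (n + 1)).trans (hmM (n + 1))
        rw [h1]
        simp only [y]
        rw [← heq, Finset.Ico_self, Finset.sum_empty, Finset.sum_eq_sum_Ico_succ_bot hlt' (f n)]
        simp only [f, dif_pos (le_refl n), tr_self]
        abel
    rw [h2, sub_sub_cancel]
    refine sum_mem fun k hk => ?_
    have hk' := (Finset.mem_Ico.1 hk).1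
    simp only [f, dif_pos (hnM.trans hk')]
    exact hm n k (hnM.trans hk') ((hmM n).trans hk') _
  have hstep : ∀ n (z : evImage F (φ n)), ∃ z' : evImage F (φ (n + 1)),
      tr F (hφ (Nat.le_succ n)) (z' : F.obj (op (φ (n + 1)))) =
        (z : F.obj (op (φ n))) - (a n - (y n - tr F (hφ (Nat.le_succ n)) (y (n + 1)))) := by
    intro n z
    obtain ⟨w, hw, hw'⟩ := evImage_surjective hF (hφ (Nat.le_succ n)) (sub_mem z.2 (hr n))
    exact ⟨⟨w, hw⟩, hw'⟩
  choose g hg using hstep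
  let z : ∀ n, evImage F (φ n) := fun n => Nat.rec (motive := fun n => evImage F (φ n)) 0 (fun n z => g n z) n
  refine ⟨fun n => y n + (z n : F.obj (op (φ n))), fun n => ?_⟩
  have key : tr F (hφ (Nat.le_succ n)) (z (n + 1) : F.obj (op (φ (n + 1)))) =
      (z n : F.obj (op (φ n))) - (a n - (y n - tr F (hφ (Nat.le_succ n)) (y (n + 1)))) := hg n (z n)
  change y n + (z n : F.obj (op (φ n))) -
    tr F (hφ (Nat.le_succ n)) (y (n + 1) + (z (n + 1) : F.obj (op (φ (n + 1))))) = a n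
  rw [map_add, key]
  exact sub_eq_of_eq_add (by abel)

omit hφ in
lemma evImage_of_compatible (β : ∀ i, F.obj (op i)) (hβ : ∀ ⦃i j : ι⦄ (h : i ≤ j), tr F h (β j) = β i)
    (i : ι) : β i ∈ evImage F i :=
  mem_evImage.2 fun _ h => ⟨_, hβ h⟩

/-- Every element of the eventual image lies on a compatible family. -/
theorem exists_through (hcof : ∀ i, ∃ n, i ≤ φ n) (hF : ML F) (n₀ : ℕ) {x : F.obj (op (φ n₀))}
    (hx : x ∈ evImage F (φ n₀)) :
    ∃ β : ∀ i, F.obj (op i), (∀ ⦃i j : ι⦄ (h : i ≤ j), tr F h (β j) = β i) ∧ β (φ n₀) = x := by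
  have hstep : ∀ n (z : evImage F (φ n)), ∃ z' : evImage F (φ (n + 1)),
      tr F (hφ (Nat.le_succ n)) (z' : F.obj (op (φ (n + 1)))) = (z : F.obj (op (φ n))) := by
    intro n z
    obtain ⟨w, hw, hw'⟩ := evImage_surjective hF (hφ (Nat.le_succ n)) z.2
    exact ⟨⟨w, hw⟩, hw'⟩
  choose g hg using hstep
  let ψ : ℕ → ι := fun n => φ (n₀ + n)
  have hψ : Monotone ψ := fun a b h => hφ (Nat.add_le_add_left h n₀)
  let z : ∀ n, evImage F (φ (n₀ + n)) :=
    fun n => Nat.rec (motive := fun n => evImage F (φ (n₀ + n))) ⟨x, hx⟩ (fun n z => g (n₀ + n) z) n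
  obtain ⟨β, hβ, hβz⟩ := exists_extend hψ (fun i => by
      obtain ⟨n, hn⟩ := hcof i
      exact ⟨n, hn.trans (hφ (Nat.le_add_left n n₀))⟩)
    (fun n => (z n : F.obj (op (ψ n)))) (fun n => hg (n₀ + n) (z n))
  exact ⟨β, hβ, hβz 0⟩

/-- Compatible families lift along `b` when the system covering `ker b` is Mittag-Leffler. -/
theorem exists_lift (hcof : ∀ i, ∃ n, i ≤ φ n) (a : A ⟶ B) (b : B ⟶ C)
    (hab : ∀ i, (b.app i).hom.ker = (a.app i).hom.range) (hA : ML A)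
    (c : ∀ i, C.obj (op i)) (hc : ∀ ⦃i j : ι⦄ (h : i ≤ j), tr C h (c j) = c i)
    (hcr : ∀ i, c i ∈ (b.app (op i)).hom.range) :
    ∃ β : ∀ i, B.obj (op i), (∀ ⦃i j : ι⦄ (h : i ≤ j), tr B h (β j) = β i) ∧
      ∀ i, (b.app (op i)).hom (β i) = c i := by
  have h0 : ∀ n, ∃ β : B.obj (op (φ n)), (b.app (op (φ n))).hom β = c (φ n) := fun n => hcr (φ n)
  choose β₀ hβ₀ using h0
  have h1 : ∀ n, ∃ α : A.obj (op (φ n)), (a.app (op (φ n))).hom α =
      tr B (hφ (Nat.le_succ n)) (β₀ (n + 1)) - β₀ n := fun n => by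
    refine (hab (op (φ n))).le ?_
    rw [AddMonoidHom.mem_ker, map_sub, app_tr, hβ₀, hβ₀, hc, sub_self]
  choose α hα using h1
  obtain ⟨x, hx⟩ := exists_primitive hφ hcof hA α
  obtain ⟨β, hβ, hβn⟩ := exists_extend hφ hcof (F := B) (fun n => β₀ n + (a.app (op (φ n))).hom (x n))
    (fun n => by
      have h2 := congrArg (fun t => (a.app (op (φ n))).hom t) (hx n)
      simp only [map_sub, app_tr, hα] at h2
      rw [map_add]
      have h3 := eq_add_of_sub_eq h2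
      rw [h3]
      abel)
  refine ⟨β, hβ, fun i => ?_⟩
  obtain ⟨n, hn⟩ := hcof i
  have h0 : (b.app (op (φ n))).hom ((a.app (op (φ n))).hom (x n)) = 0 :=
    (hab (op (φ n))).ge ⟨x n, rfl⟩
  rw [← hβ hn, hβn, app_tr, map_add, hβ₀, h0, add_zero, hc]

end seq

end Groth.Agent.Lib.MLSeq.Basic
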