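/-
Limits of systems of complexes of abelian groups under Mittag-Leffler hypotheses.
-/
import Groth.Agent.Lib.MLSeq.Basic
import Mathlib.Algebra.Homology.HomologicalComplexLimits
import Mathlib.Algebra.Homology.HomologicalComplexAbelian
import Mathlib.Algebra.Homology.ShortComplex.Ab
import Mathlib.Algebra.Homology.ShortComplex.HomologicalComplex
import Mathlib.Algebra.Category.Grp.Ulift

set_option autoImplicit false

open CategoryTheory CategoryTheory.Limits Opposite

namespace Groth.Agent.Lib.MLSeq.Complex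

open Groth.Agent.Lib.MLSeq.Basic

universe w u

variable {ι : Type w} [Preorder ι]

/-- The map out of `ULift ℤ` picking an element. -/
def elemHom {X : AddCommGrpCat.{u}} (x : X) : AddCommGrpCat.of (ULift.{u} ℤ) ⟶ X :=
  AddCommGrpCat.ofHom
    { toFun := fun t => t.down • x
      map_zero' := zero_zsmul x
      map_add' := fun a b => add_zsmul x a.down b.down }

lemma elemHom_one {X : AddCommGrpCat.{u}} (x : X) : (elemHom x).hom (ULift.up 1) = x := one_zsmul x

lemma elemHom_comp {X Y : AddCommGrpCat.{u}} (x : X) (f : X ⟶ Y) : elemHom x ≫ f = elemHom (f.hom x) := by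
  ext t
  exact map_zsmul f.hom t.down x

section lim

variable (F : ιᵒᵖ ⥤ AddCommGrpCat.{u}) [HasLimit F]

/-- The cone of a compatible family. -/
def elemCone (s : ∀ i, F.obj (op i)) (hs : ∀ ⦃i j : ι⦄ (h : i ≤ j), tr F h (s j) = s i) : Cone F where
  pt := AddCommGrpCat.of (ULift.{u} ℤ)
  π :=
    { app := fun j => elemHom (s j.unop)
      naturality := fun j k f => by
        rw [elemHom_comp, ← hs (leOfHom f.unop)]
        exact Category.id_comp _ }

/-- The element of the limit given by a compatible family. -/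
noncomputable def limElem (s : ∀ i, F.obj (op i))
    (hs : ∀ ⦃i j : ι⦄ (h : i ≤ j), tr F h (s j) = s i) : (limit F : AddCommGrpCat.{u}) :=
  (limit.lift F (elemCone F s hs)).hom (ULift.up.{u} (1 : ℤ) : ULift.{u} ℤ)

lemma limit_π_limElem (s : ∀ i, F.obj (op i))
    (hs : ∀ ⦃i j : ι⦄ (h : i ≤ j), tr F h (s j) = s i) (i : ι) :
    (limit.π F (op i)).hom (limElem F s hs) = s i := by
  change (limit.lift F (elemCone F s hs) ≫ limit.π F (op i)).hom (ULift.up 1) = s i
  rw [limit.lift_π]
  exact elemHom_one _

lemma limit_π_tr {i j : ι} (h : i ≤ j) (x : (limit F : AddCommGrpCat.{u})) :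
    tr F h ((limit.π F (op j)).hom x) = (limit.π F (op i)).hom x := by
  change (limit.π F (op j) ≫ F.map _).hom x = _
  rw [limit.w]

lemma ext {x y : (limit F : AddCommGrpCat.{u})}
    (h : ∀ i, (limit.π F (op i)).hom x = (limit.π F (op i)).hom y) : x = y := by
  have h' : elemHom x = elemHom y :=
    limit.hom_ext fun j => by rw [elemHom_comp, elemHom_comp, h j.unop]
  rw [← elemHom_one x, h', elemHom_one]

end lim

variable {κ : Type} {c : ComplexShape κ}

section one

variable (K : HomologicalComplex AddCommGrpCat.{u} c)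

lemma exists_cycle {i j : κ} (hij : c.Rel i j) (x : K.X i) (hx : (K.d i j).hom x = 0) :
    ∃ z : K.cycles i, (K.iCycles i).hom z = x := by
  have h := ShortComplex.exact_of_f_is_kernel
    (ShortComplex.mk (K.iCycles i) (K.d i j) (K.iCycles_d i j)) (K.cyclesIsKernel i j (c.next_eq' hij))
  exact (ShortComplex.ab_exact_iff _).1 h x hx

lemma iCycles_injective (i : κ) : Function.Injective (K.iCycles i).hom :=
  (AddCommGrpCat.mono_iff_injective _).1 inferInstance

lemma homologyπ_surjective (i : κ) : Function.Surjective (K.homologyπ i).hom :=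
  (AddCommGrpCat.epi_iff_surjective _).1 inferInstance

lemma homologyπ_eq_zero_iff {m n : κ} (hmn : c.Rel m n) (z : K.cycles n) :
    (K.homologyπ n).hom z = 0 ↔ ∃ y, (K.toCycles m n).hom y = z := by
  have h := ShortComplex.exact_of_g_is_cokernel
    (ShortComplex.mk (K.toCycles m n) (K.homologyπ n) (K.toCycles_comp_homologyπ m n))
    (K.homologyIsCokernel m n (c.prev_eq' hmn))
  constructor
  · exact fun hz => (ShortComplex.ab_exact_iff _).1 h z hz
  · rintro ⟨y, rfl⟩
    change (K.toCycles m n ≫ K.homologyπ n).hom y = 0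
    rw [K.toCycles_comp_homologyπ]
    rfl

lemma iCycles_toCycles (m n : κ) (y : K.X m) :
    (K.iCycles n).hom ((K.toCycles m n).hom y) = (K.d m n).hom y := by
  change (K.toCycles m n ≫ K.iCycles n).hom y = _
  rw [K.toCycles_i]

lemma d_iCycles (i j : κ) (z : K.cycles i) : (K.d i j).hom ((K.iCycles i).hom z) = 0 := by
  change (K.iCycles i ≫ K.d i j).hom z = 0
  rw [K.iCycles_d]
  rfl

end one

variable (K : ιᵒᵖ ⥤ HomologicalComplex AddCommGrpCat.{u} c)

/-- Degreewise systems. -/
abbrev deg (n : κ) : ιᵒᵖ ⥤ AddCommGrpCat.{u} := K ⋙ HomologicalComplex.eval _ _ n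

/-- The systems of cycles. -/
noncomputable abbrev cyc (n : κ) : ιᵒᵖ ⥤ AddCommGrpCat.{u} := K ⋙ HomologicalComplex.cyclesFunctor _ _ n

/-- The systems of homology groups. -/
noncomputable abbrev hom' (n : κ) : ιᵒᵖ ⥤ AddCommGrpCat.{u} := K ⋙ HomologicalComplex.homologyFunctor _ _ n

/-- Differentials. -/
def dNat (m n : κ) : deg K m ⟶ deg K n where
  app i := (K.obj i).d m n
  naturality _ _ f := (K.map f).comm m n

/-- Boundary map into cycles. -/
noncomputable def toCyclesNat (m n : κ) : deg K m ⟶ cyc K n where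
  app i := (K.obj i).toCycles m n
  naturality i j f := by
    apply (cancel_mono ((K.obj j).iCycles n)).1
    change ((K.map f).f m ≫ _) ≫ _ = (_ ≫ HomologicalComplex.cyclesMap (K.map f) n) ≫ _
    rw [Category.assoc, Category.assoc, HomologicalComplex.toCycles_i, HomologicalComplex.cyclesMap_i,
      HomologicalComplex.toCycles_i_assoc]
    exact (K.map f).comm m n

/-- Inclusion of cycles. -/
noncomputable def iCyclesNat (n : κ) : cyc K n ⟶ deg K n where
  app i := (K.obj i).iCycles n
  naturality i j f := HomologicalComplex.cyclesMap_i _ _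

/-- Projection to homology. -/
noncomputable def homologyπNat (n : κ) : cyc K n ⟶ hom' K n where
  app i := (K.obj i).homologyπ n
  naturality i j f := (HomologicalComplex.homologyπ_naturality _ _).symm

lemma ker_homologyπNat {m n : κ} (hmn : c.Rel m n) (i : ιᵒᵖ) :
    ((homologyπNat K n).app i).hom.ker = ((toCyclesNat K m n).app i).hom.range :=
  AddSubgroup.ext fun z => homologyπ_eq_zero_iff (K.obj i) hmn z

lemma ker_dNat {i j : κ} (hij : c.Rel i j) (k : ιᵒᵖ) :
    ((dNat K i j).app k).hom.ker = ((iCyclesNat K i).app k).hom.range := by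
  ext x
  constructor
  · exact fun hx => exists_cycle (K.obj k) hij x hx
  · rintro ⟨z, rfl⟩
    exact d_iCycles (K.obj k) i j z

lemma ml_cycles [IsDirected ι (· ≤ ·)] {m n : κ} (hmn : c.Rel m n) (hK : ML (deg K m))
    (hH : ML (hom' K n)) : ML (cyc K n) :=
  ml_extension (toCyclesNat K m n) (homologyπNat K n) (fun i => homologyπ_surjective (K.obj i) n)
    (ker_homologyπNat K hmn) hK hH

variable [HasLimitsOfShape ιᵒᵖ AddCommGrpCat.{u}]

lemma exists_lim (n : κ) (s : ∀ i, (K.obj (op i)).X n)
    (hs : ∀ ⦃i j : ι⦄ (h : i ≤ j), tr (deg K n) h (s j) = s i) :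
    ∃ x : (limit K).X n, ∀ i, ((limit.π K (op i)).f n).hom x = s i := by
  refine ⟨(preservesLimitIso (HomologicalComplex.eval _ _ n) K).inv.hom (limElem (deg K n) s hs), fun i => ?_⟩
  change ((preservesLimitIso (HomologicalComplex.eval _ _ n) K).inv ≫
    (HomologicalComplex.eval _ _ n).map (limit.π K (op i))).hom (limElem (deg K n) s hs) = s i
  rw [preservesLimitIso_inv_π]
  exact limit_π_limElem _ _ _ _

lemma lim_ext (n : κ) {x y : (limit K).X n}
    (h : ∀ i, ((limit.π K (op i)).f n).hom x = ((limit.π K (op i)).f n).hom y) : x = y := by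
  apply (AddCommGrpCat.mono_iff_injective (preservesLimitIso (HomologicalComplex.eval _ _ n) K).hom).1
    inferInstance
  refine ext (deg K n) fun i => ?_
  change ((preservesLimitIso (HomologicalComplex.eval _ _ n) K).hom ≫ limit.π (deg K n) (op i)).hom x =
    ((preservesLimitIso (HomologicalComplex.eval _ _ n) K).hom ≫ limit.π (deg K n) (op i)).hom y
  rw [preservesLimitIso_hom_π]
  exact h i

lemma post_π (n : κ) (z : (limit K).cycles n) (i : ι) :
    (limit.π (hom' K n) (op i)).hom ((limit.post K (HomologicalComplex.homologyFunctor _ _ n)).hom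
        (((limit K).homologyπ n).hom z)) =
      ((K.obj (op i)).homologyπ n).hom ((HomologicalComplex.cyclesMap (limit.π K (op i)) n).hom z) := by
  have h : (limit K).homologyπ n ≫ limit.post K (HomologicalComplex.homologyFunctor _ _ n) ≫
      limit.π (hom' K n) (op i) =
        HomologicalComplex.cyclesMap (limit.π K (op i)) n ≫ (K.obj (op i)).homologyπ n := by
    erw [limit.post_π]
    exact HomologicalComplex.homologyπ_naturality _ _
  exact congrArg (fun f => f.hom z) h

lemma iCycles_cyclesMap (n : κ) (z : (limit K).cycles n) (i : ι) :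
    ((K.obj (op i)).iCycles n).hom ((HomologicalComplex.cyclesMap (limit.π K (op i)) n).hom z) =
      ((limit.π K (op i)).f n).hom (((limit K).iCycles n).hom z) := by
  change (HomologicalComplex.cyclesMap (limit.π K (op i)) n ≫ (K.obj (op i)).iCycles n).hom z = _
  rw [HomologicalComplex.cyclesMap_i]
  rfl

lemma d_π (m n : κ) (x : (limit K).X m) (i : ι) :
    ((limit.π K (op i)).f n).hom (((limit K).d m n).hom x) =
      ((K.obj (op i)).d m n).hom (((limit.π K (op i)).f m).hom x) := by
  change ((limit K).d m n ≫ (limit.π K (op i)).f n).hom x = _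
  rw [← HomologicalComplex.Hom.comm]
  rfl

variable {φ : ℕ → ι} (hφ : Monotone φ) (hcof : ∀ i, ∃ n, i ≤ φ n)
include hφ hcof

/-- `H^n` of the limit maps onto the limit of `H^n`. -/
theorem post_surjective {m n l : κ} (hmn : c.Rel m n) (hnl : c.Rel n l) (hK : ML (deg K m)) :
    Function.Surjective (limit.post K (HomologicalComplex.homologyFunctor _ _ n)).hom := by
  intro ξ
  obtain ⟨z, hz, hzc⟩ := exists_lift hφ hcof (toCyclesNat K m n) (homologyπNat K n)
    (ker_homologyπNat K hmn) hK (fun i => (limit.π (hom' K n) (op i)).hom ξ)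
    (fun i j h => limit_π_tr (hom' K n) h ξ) (fun i => homologyπ_surjective (K.obj (op i)) n _)
  obtain ⟨x, hx⟩ := exists_lim K n (fun i => ((K.obj (op i)).iCycles n).hom (z i)) (fun i j h => by
    rw [← hz h]; exact (app_tr (iCyclesNat K n) h (z j)).symm)
  obtain ⟨w, hw⟩ := exists_cycle (limit K) hnl x (lim_ext K l fun i => by
    rw [d_π, hx]
    exact (d_iCycles _ n l (z i)).trans (map_zero _).symm)
  refine ⟨((limit K).homologyπ n).hom w, ext (hom' K n) fun i => ?_⟩
  rw [post_π]
  refine Eq.trans ?_ (hzc i)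
  refine congrArg ((K.obj (op i)).homologyπ n).hom (iCycles_injective _ n ?_)
  rw [iCycles_cyclesMap, hw, hx]

/-- `H^n` of the limit injects into the limit of `H^n`. -/
theorem post_injective {m n : κ} (hmn : c.Rel m n) (hZ : ML (cyc K m)) :
    Function.Injective (limit.post K (HomologicalComplex.homologyFunctor _ _ n)).hom := by
  rw [injective_iff_map_eq_zero]
  intro h hh
  obtain ⟨z, rfl⟩ := homologyπ_surjective (limit K) n h
  have hzi : ∀ i, ∃ y, ((K.obj (op i)).toCycles m n).hom y =
      (HomologicalComplex.cyclesMap (limit.π K (op i)) n).hom z := fun i => by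
    refine (homologyπ_eq_zero_iff _ hmn _).1 ?_
    refine (post_π K n z i).symm.trans ?_
    rw [hh]
    exact map_zero _
  obtain ⟨y, hy, hyd⟩ := exists_lift hφ hcof (iCyclesNat K m) (dNat K m n) (ker_dNat K hmn) hZ
    (fun i => ((limit.π K (op i)).f n).hom (((limit K).iCycles n).hom z))
    (fun i j h => by
      change ((limit.π K (op j)).f n ≫ (K.map (homOfLE h).op).f n).hom _ = _
      rw [← HomologicalComplex.comp_f, limit.w])
    (fun i => by
      obtain ⟨y, hy⟩ := hzi i
      refine ⟨y, ?_⟩
      change ((K.obj (op i)).d m n).hom y = _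
      rw [← iCycles_toCycles, hy, iCycles_cyclesMap])
  obtain ⟨x, hx⟩ := exists_lim K m y hy
  refine (homologyπ_eq_zero_iff _ hmn _).2 ⟨x, iCycles_injective _ n (lim_ext K n fun i => ?_)⟩
  rw [iCycles_toCycles, d_π, hx]
  exact hyd i

end Groth.Agent.Lib.MLSeq.Complex
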